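import Groth.Agent.SpFilLim.Basic
import Mathlib

/-!
# Differentials of the pages of a filtered complex and classes closed under five-term sequences
-/

set_option autoImplicit false
set_option linter.style.haveILetI false
set_option backward.isDefEq.respectTransparency false
set_option backward.isDefEq.respectTransparency.types false

universe v u

open CategoryTheory Limits

namespace Groth.Agent.SpFilLim

variable {A : Type u} [Category.{v} A] [Abelian A]

section Quot

variable {X : A}

theorem sup_decomp {S T : Subobject X} {W : A} {x : W ⟶ X} (h : (S ⊔ T).Factors x) :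
    ∃ (W' : A) (π : W' ⟶ W) (_ : Epi π) (a b : W' ⟶ X),
      S.Factors a ∧ T.Factors b ∧ π ≫ x = a + b := by
  let m := biprod.desc S.arrow T.arrow
  have hle : S ⊔ T ≤ imageSubobject m := by
    refine sup_le (le_of_factors ?_) (le_of_factors ?_)
    · have := imageSubobject_factors_comp_self m (biprod.inl : (S : A) ⟶ (S : A) ⊞ (T : A))
      simpa [m] using this
    · have := imageSubobject_factors_comp_self m (biprod.inr : (T : A) ⟶ (S : A) ⊞ (T : A))
      simpa [m] using this
  have h' := Subobject.factors_of_le _ hle h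
  obtain ⟨W', π, hπ, c, hc⟩ := surjective_up_to_refinements_of_epi (factorThruImageSubobject m)
    ((imageSubobject m).factorThru x h')
  refine ⟨W', π, hπ, (c ≫ biprod.fst) ≫ S.arrow, (c ≫ biprod.snd) ≫ T.arrow, Subobject.factors_comp_arrow _,
    Subobject.factors_comp_arrow _, ?_⟩
  have e := hc =≫ (imageSubobject m).arrow
  simp only [Category.assoc, Subobject.factorThru_arrow, imageSubobject_arrow_comp] at e
  rw [e, ← Category.comp_id c, ← biprod.total]
  simp [m, biprod.desc_eq, Preadditive.add_comp, Preadditive.comp_add]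

/-- the class map from a subobject to a subquotient -/
noncomputable def qmap (N Z B : Subobject X) (hN : N ≤ Z) (hB : B ≤ Z) : (N : A) ⟶ SpSeq.subquot Z B hB :=
  N.ofLE Z hN ≫ cokernel.π (B.ofLE Z hB)

variable {N Z B : Subobject X} (hN : N ≤ Z) (hB : B ≤ Z)

theorem qmap_eq_zero_iff {W : A} (x : W ⟶ (N : A)) :
    x ≫ qmap N Z B hN hB = 0 ↔ B.Factors (x ≫ N.arrow) := by
  constructor
  · intro h
    have h' : (x ≫ N.ofLE Z hN) ≫ cokernel.π (B.ofLE Z hB) = 0 := by rw [Category.assoc]; exact h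
    have e := Abelian.monoLift_comp (B.ofLE Z hB) _ h'
    have e' := e =≫ Z.arrow
    simp only [Category.assoc, Subobject.ofLE_arrow] at e'
    rw [← e']
    exact Subobject.factors_comp_arrow _
  · intro h
    have e : x ≫ N.ofLE Z hN = B.factorThru _ h ≫ B.ofLE Z hB := by
      rw [← cancel_mono Z.arrow]; simp
    show x ≫ _ ≫ _ = 0
    rw [← Category.assoc, e, Category.assoc, cokernel.condition, comp_zero]

theorem epi_qmap (h : Z ≤ N ⊔ B) : Epi (qmap N Z B hN hB) := by
  rw [epi_iff_surjective_up_to_refinements]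
  intro W y
  obtain ⟨W₁, π₁, hπ₁, z, hz⟩ := surjective_up_to_refinements_of_epi (cokernel.π (B.ofLE Z hB)) y
  obtain ⟨W₂, π₂, hπ₂, a, b, ha, hb, hab⟩ := sup_decomp (Subobject.factors_of_le (z ≫ Z.arrow) h
    (Subobject.factors_comp_arrow _))
  refine ⟨W₂, π₂ ≫ π₁, inferInstance, N.factorThru a ha, ?_⟩
  have e : π₂ ≫ z = N.factorThru a ha ≫ N.ofLE Z hN + B.factorThru b hb ≫ B.ofLE Z hB := by
    rw [← cancel_mono Z.arrow]; simp [hab, Preadditive.add_comp]
  rw [Category.assoc, hz, ← Category.assoc, e, Preadditive.add_comp, Category.assoc, Category.assoc,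
    cokernel.condition, comp_zero, add_zero]
  rfl

end Quot

/-- two epimorphisms with the same null elements have isomorphic targets -/
theorem nonempty_iso_of_epi {N E E' : A} (f : N ⟶ E) [Epi f] (g : N ⟶ E') [Epi g]
    (h : ∀ (W : A) (x : W ⟶ N), x ≫ f = 0 ↔ x ≫ g = 0) : Nonempty (E ≅ E') := by
  let a := Abelian.epiDesc f g ((h _ _).1 (kernel.condition f))
  let b := Abelian.epiDesc g f ((h _ _).2 (kernel.condition g))
  exact ⟨⟨a, b, by rw [← cancel_epi f]; simp [a, b], by rw [← cancel_epi g]; simp [a, b]⟩⟩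

variable (K : SpSeq.FilCx A)

/-- elements of level `p` whose differential has level `q` -/
noncomputable def num (p q a b : ℤ) : Subobject (K.obj.X a) :=
  K.filX p a ⊓ (Subobject.pullback (K.obj.d a b)).obj (K.filX q b)

theorem num_factors_iff {p q a b : ℤ} {W : A} {x : W ⟶ K.obj.X a} :
    (num K p q a b).Factors x ↔ (K.filX p a).Factors x ∧ (K.filX q b).Factors (x ≫ K.obj.d a b) := by
  refine (Subobject.inf_factors x).trans (and_congr_right fun _ => ⟨fun h => ?_, fun h => ?_⟩)
  · rw [← Subobject.factorThru_arrow _ _ h, Category.assoc, ← (Subobject.isPullback (K.obj.d a b) _).w,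
      ← Category.assoc]
    exact Subobject.factors_comp_arrow _
  · have hl := (Subobject.isPullback (K.obj.d a b) (K.filX q b)).lift_snd ((K.filX q b).factorThru _ h) x
      (Subobject.factorThru_arrow _ _ h)
    rw [← hl]
    exact Subobject.factors_comp_arrow _

theorem num_le {r : ℕ} {p q a b : ℤ} (hq : p + r ≤ q) (hb : a + 1 = b) : num K p q a b ≤ K.ZSub r p a := by
  subst hb
  refine le_of_factors ?_
  obtain ⟨h1, h2⟩ := (num_factors_iff K).1 (Subobject.factors_self (num K p q a (a + 1)))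
  exact Subobject.sup_factors_of_factors_left ((num_factors_iff K).2
    ⟨h1, Subobject.factors_of_le _ (K.filX_anti (a + 1) hq) h2⟩)

theorem ZSub_le_num_sup {r : ℕ} {p a : ℤ} : K.ZSub r p a ≤ num K p (p + r) a (a + 1) ⊔ K.BSub r p a :=
  sup_le le_sup_left (le_trans le_sup_right le_sup_right)

theorem ker_le_num (p q a b : ℤ) : K.filX p a ⊓ kernelSubobject (K.obj.d a b) ≤ num K p q a b :=
  inf_le_inf_left _ (SpSeq.FilCx.kernelSubobject_le_pullback _ _)

/-- elements of a boundary level -/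
theorem BSub_factors {r : ℕ} {p a c : ℤ} (hc : c + 1 = a) {W : A} {x : W ⟶ K.obj.X a}
    (hx : (K.filX p a).Factors x) {q : ℤ} (hq : p - r + 1 ≤ q) {w : W ⟶ K.obj.X c} (hw : (K.filX q c).Factors w)
    (h : w ≫ K.obj.d c a = x) : (K.BSub r p a).Factors x := by
  obtain rfl : c = a - 1 := by omega
  refine Subobject.sup_factors_of_factors_left ((Subobject.inf_factors x).2 ⟨hx, ?_⟩)
  obtain ⟨z, rfl⟩ := exists_of_factors K hw
  rw [← h]
  exact factors_image K a hq z

theorem BSub_decomp {r : ℕ} {p a c : ℤ} (hc : c + 1 = a) {W : A} {x : W ⟶ K.obj.X a}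
    (h : (K.BSub r p a).Factors x) :
    ∃ (W' : A) (π : W' ⟶ W) (_ : Epi π) (w : W' ⟶ K.obj.X c) (y : W' ⟶ K.obj.X a),
      (K.filX (p - r + 1) c).Factors w ∧ (K.filX p a).Factors (w ≫ K.obj.d c a) ∧
      (K.filX (p + 1) a).Factors y ∧ π ≫ x = w ≫ K.obj.d c a + y := by
  obtain rfl : c = a - 1 := by omega
  obtain ⟨W₁, π₁, hπ₁, b, y, hb, hy, hby⟩ := sup_decomp h
  obtain ⟨hb₁, hb₂⟩ := (Subobject.inf_factors b).1 hb
  obtain ⟨W₂, π₂, hπ₂, z, hz⟩ := surjective_up_to_refinements_of_epi
    (factorThruImageSubobject ((K.filX (p - r + 1) (a - 1)).arrow ≫ K.obj.d (a - 1) a)) (Subobject.factorThru _ b hb₂)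
  have e : π₂ ≫ b = (z ≫ (K.filX (p - r + 1) (a - 1)).arrow) ≫ K.obj.d (a - 1) a := by
    have := hz =≫ (imageSubobject ((K.filX (p - r + 1) (a - 1)).arrow ≫ K.obj.d (a - 1) a)).arrow
    simpa using this
  refine ⟨W₂, π₂ ≫ π₁, inferInstance, z ≫ (K.filX (p - r + 1) (a - 1)).arrow, π₂ ≫ y,
    Subobject.factors_comp_arrow _, ?_, Subobject.factors_of_factors_right _ hy, ?_⟩
  · rw [← e]; exact Subobject.factors_of_factors_right _ hb₁
  · rw [Category.assoc, hby, Preadditive.comp_add, e]

/-- the class map of a page -/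
noncomputable def cls (r : ℕ) {p q a b : ℤ} (hq : p + r ≤ q) (hb : a + 1 = b) :
    (num K p q a b : A) ⟶ K.E r p a :=
  qmap (num K p q a b) (K.ZSub r p a) (K.BSub r p a) (num_le K hq hb) (K.BSub_le_ZSub r p a)

theorem epi_cls (r : ℕ) {p q a b : ℤ} (hq : p + r = q) (hb : a + 1 = b) : Epi (cls K r hq.le hb) := by
  subst hq hb
  exact epi_qmap _ _ (ZSub_le_num_sup K)

theorem cls_eq_zero_iff (r : ℕ) {p q a b : ℤ} (hq : p + r ≤ q) (hb : a + 1 = b) {W : A} (x : W ⟶ (num K p q a b : A)) :
    x ≫ cls K r hq hb = 0 ↔ (K.BSub r p a).Factors (x ≫ (num K p q a b).arrow) :=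
  qmap_eq_zero_iff _ _ x

theorem cls_congr (r : ℕ) {p q q' a b : ℤ} (hq : p + r ≤ q) (hq' : p + r ≤ q') (hb : a + 1 = b) {W : A}
    (x : W ⟶ (num K p q a b : A)) (y : W ⟶ (num K p q' a b : A))
    (h : (K.BSub r p a).Factors (x ≫ (num K p q a b).arrow - y ≫ (num K p q' a b).arrow)) :
    x ≫ cls K r hq hb = y ≫ cls K r hq' hb := by
  have hle : num K p q a b ≤ K.ZSub r p a := num_le K hq hb
  have hle' : num K p q' a b ≤ K.ZSub r p a := num_le K hq' hb
  show x ≫ _ ≫ _ = y ≫ _ ≫ _
  rw [← sub_eq_zero, ← Category.assoc, ← Category.assoc, ← Preadditive.sub_comp]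
  have e : x ≫ (num K p q a b).ofLE _ hle - y ≫ (num K p q' a b).ofLE _ hle' =
      (K.BSub r p a).factorThru _ h ≫ (K.BSub r p a).ofLE _ (K.BSub_le_ZSub r p a) := by
    rw [← cancel_mono (K.ZSub r p a).arrow]; simp [Preadditive.sub_comp]
  rw [e, Category.assoc, cokernel.condition, comp_zero]

section Diff

variable (r : ℕ) {p q s a b c : ℤ} (hq : p + r = q) (hs : q + r = s) (hb : a + 1 = b) (hc : b + 1 = c)

/-- the differential on representatives -/
noncomputable def dnum : (num K p q a b : A) ⟶ (num K q s b c : A) :=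
  (num K q s b c).factorThru ((num K p q a b).arrow ≫ K.obj.d a b) ((num_factors_iff K).2
    ⟨((num_factors_iff K).1 (Subobject.factors_self (num K p q a b))).2, by
      rw [Category.assoc, K.obj.d_comp_d, comp_zero]
      exact Subobject.factors_zero⟩)

@[reassoc (attr := simp)]
theorem dnum_arrow : dnum K (s := s) (c := c) ≫ (num K q s b c).arrow = (num K p q a b).arrow ≫ K.obj.d a b :=
  Subobject.factorThru_arrow _ _ _

include hq hb in
theorem dnum_kills : kernel.ι (cls K r hq.le hb) ≫ dnum K ≫ cls K r hs.le hc = 0 := by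
  rw [← Category.assoc, cls_eq_zero_iff]
  have h0 := (cls_eq_zero_iff K r hq.le hb _).1 (kernel.condition (cls K r hq.le hb))
  obtain ⟨W, π, hπ, w, y, hw, hwd, hy, e⟩ := BSub_decomp K (sub_add_cancel a 1) h0
  apply factors_of_epi _ π
  have e' : π ≫ (kernel.ι (cls K r hq.le hb) ≫ dnum K) ≫ (num K q s b c).arrow = y ≫ K.obj.d a b := by
    rw [Category.assoc, dnum_arrow, ← Category.assoc, ← Category.assoc, Category.assoc π, e,
      Preadditive.add_comp, Category.assoc, K.obj.d_comp_d, comp_zero, zero_add]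
  refine BSub_factors K hb (Subobject.factors_of_factors_right _ ?_) (show q - r + 1 ≤ p + 1 by omega) hy e'.symm
  rw [Category.assoc, dnum_arrow]
  exact Subobject.factors_of_factors_right _ ((num_factors_iff K).1 (Subobject.factors_self (num K p q a b))).2

/-- the differential of a page -/
noncomputable def diff : K.E r p a ⟶ K.E r q b :=
  haveI := epi_cls K r hq hb
  Abelian.epiDesc (cls K r hq.le hb) (dnum K ≫ cls K r hs.le hc) (dnum_kills K r hq hs hb hc)

@[reassoc]
theorem cls_diff : cls K r hq.le hb ≫ diff K r hq hs hb hc = dnum K ≫ cls K r hs.le hc :=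
  haveI := epi_cls K r hq hb
  Abelian.comp_epiDesc _ _ _

end Diff

section Succ

variable (r : ℕ) {o p q s z a b c : ℤ} (ho : o + r = p) (hq : p + r = q) (hs : q + r = s)
  (hz : z + 1 = a) (hb : a + 1 = b) (hc : b + 1 = c)

theorem diff_comp : diff K r ho hq hz hb ≫ diff K r hq hs hb hc = 0 := by
  haveI := epi_cls K r ho hz
  rw [← cancel_epi (cls K r ho.le hz), cls_diff_assoc, cls_diff, comp_zero, ← Category.assoc, cls_eq_zero_iff,
    Category.assoc, dnum_arrow, dnum_arrow_assoc, K.obj.d_comp_d, comp_zero]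
  exact Subobject.factors_zero

/-- the next page as the homology of the page -/
theorem nonempty_iso_homology :
    Nonempty (K.E (r + 1) p a ≅ (ShortComplex.mk _ _ (diff_comp K r ho hq hs hz hb hc)).homology) := by
  let S := ShortComplex.mk _ _ (diff_comp K r ho hq hs hz hb hc)
  let N := num K p (p + ((r + 1 : ℕ) : ℤ)) a b
  have hle : p + (r : ℤ) ≤ p + ((r + 1 : ℕ) : ℤ) := by omega
  have hφ : cls K r hle hb ≫ diff K r hq hs hb hc = 0 := by
    have h1 := Subobject.factors_self N
    let j : (N : A) ⟶ (num K p q a b : A) := (num K p q a b).factorThru N.arrow ((num_factors_iff K).2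
      ⟨((num_factors_iff K).1 h1).1, Subobject.factors_of_le _ (K.filX_anti b (by omega)) ((num_factors_iff K).1 h1).2⟩)
    have ej : cls K r hle hb = j ≫ cls K r hq.le hb := by
      refine (Category.id_comp _).symm.trans (cls_congr K r hle hq.le hb (𝟙 _) j ?_)
      simp [j, N, Subobject.factors_zero]
    rw [ej, Category.assoc, cls_diff, ← Category.assoc, cls_eq_zero_iff, Category.assoc, dnum_arrow,
      ← Category.assoc, Subobject.factorThru_arrow]
    exact Subobject.sup_factors_of_factors_right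
      (Subobject.factors_of_le _ (K.filX_anti b (by omega)) ((num_factors_iff K).1 h1).2)
  let φ : (N : A) ⟶ S.homology := S.liftCycles (cls K r hle hb) hφ ≫ S.homologyπ
  haveI : Epi φ := by
    rw [epi_iff_surjective_up_to_refinements]
    intro W γ
    obtain ⟨W₁, π₁, hπ₁, t, ht⟩ := surjective_up_to_refinements_of_epi S.homologyπ γ
    haveI := epi_cls K r hq hb
    obtain ⟨W₂, π₂, hπ₂, x, hx⟩ := surjective_up_to_refinements_of_epi (cls K r hq.le hb) (t ≫ S.iCycles)
    have h0 : (x ≫ dnum K) ≫ cls K r hs.le hc = 0 := by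
      rw [Category.assoc, ← cls_diff K r hq hs hb hc, ← Category.assoc, ← hx, Category.assoc, Category.assoc,
        show S.iCycles ≫ diff K r hq hs hb hc = 0 from S.iCycles_g, comp_zero, comp_zero]
    obtain ⟨W₃, π₃, hπ₃, w, y, hw, hwd, hy, e⟩ := BSub_decomp K hb ((cls_eq_zero_iff K r hs.le hc _).1 h0)
    rw [Category.assoc, dnum_arrow] at e
    have hx1 := (num_factors_iff K).1 (Subobject.factors_comp_arrow (P := num K p q a b) (π₃ ≫ x))
    have hw' : (K.filX (p + 1) a).Factors w := Subobject.factors_of_le _ (K.filX_anti a (by omega)) hw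
    have hnew : N.Factors ((π₃ ≫ x) ≫ (num K p q a b).arrow + -w) := by
      refine (num_factors_iff K).2 ⟨Subobject.factors_add _ _ hx1.1 ?_, ?_⟩
      · rw [show -w = (-𝟙 _) ≫ w by simp]
        exact Subobject.factors_of_factors_right _ (Subobject.factors_of_le _ (K.filX_anti a (by omega)) hw')
      · have e2 : ((π₃ ≫ x) ≫ (num K p q a b).arrow + -w) ≫ K.obj.d a b = y := by
          rw [Preadditive.add_comp, Category.assoc, Category.assoc, e, Preadditive.neg_comp]
          abel
        rw [e2]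
        exact Subobject.factors_of_le _ (K.filX_anti b (by omega)) hy
    refine ⟨W₃, π₃ ≫ π₂ ≫ π₁, inferInstance, N.factorThru _ hnew, ?_⟩
    have e3 : N.factorThru _ hnew ≫ cls K r hle hb = π₃ ≫ π₂ ≫ t ≫ S.iCycles := by
      rw [hx, ← Category.assoc]
      refine cls_congr K r hle hq.le hb _ _ ?_
      rw [Subobject.factorThru_arrow, add_sub_cancel_left, show -w = (-𝟙 _) ≫ w by simp]
      exact Subobject.factors_of_factors_right _ (Subobject.sup_factors_of_factors_right hw')
    have e4 : N.factorThru _ hnew ≫ S.liftCycles (cls K r hle hb) hφ = π₃ ≫ π₂ ≫ t := by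
      rw [← cancel_mono S.iCycles, Category.assoc, S.liftCycles_i, e3]
      simp
    rw [Category.assoc, Category.assoc, ht, ← Category.assoc (N.factorThru _ hnew), e4]
    simp
  haveI := epi_cls K (r + 1) (rfl : p + ((r + 1 : ℕ) : ℤ) = _) hb
  refine nonempty_iso_of_epi (cls K (r + 1) (le_refl (p + ((r + 1 : ℕ) : ℤ))) hb) φ fun W x => ?_
  rw [cls_eq_zero_iff, ← Category.assoc, S.comp_homologyπ_eq_zero_iff_up_to_refinements]
  constructor
  · intro h
    obtain ⟨W₁, π₁, hπ₁, w, y, hw, hwd, hy, e⟩ := BSub_decomp K hz h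
    have hwn : (num K o p z a).Factors w :=
      (num_factors_iff K).2 ⟨Subobject.factors_of_le _ (K.filX_anti z (by omega)) hw, hwd⟩
    refine ⟨W₁, π₁, hπ₁, (num K o p z a).factorThru w hwn ≫ cls K r ho.le hz, ?_⟩
    rw [← cancel_mono S.iCycles]
    simp only [Category.assoc, ShortComplex.liftCycles_i, ShortComplex.toCycles_i]
    show π₁ ≫ x ≫ cls K r hle hb = (num K o p z a).factorThru w hwn ≫ cls K r ho.le hz ≫ diff K r ho hq hz hb
    rw [cls_diff, ← Category.assoc, ← Category.assoc]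
    refine cls_congr K r hle hq.le hb _ _ ?_
    rw [Category.assoc π₁, e, Category.assoc, dnum_arrow, Subobject.factorThru_arrow_assoc, add_sub_cancel_left]
    exact Subobject.sup_factors_of_factors_right hy
  · rintro ⟨W₁, π₁, hπ₁, u, hu⟩
    haveI := epi_cls K r ho hz
    obtain ⟨W₂, π₂, hπ₂, v, hv⟩ := surjective_up_to_refinements_of_epi (cls K r ho.le hz) u
    have h1 : (π₂ ≫ π₁ ≫ x) ≫ cls K r hle hb = (v ≫ dnum K) ≫ cls K r hq.le hb := by
      have := (π₂ ≫= hu) =≫ S.iCycles
      simp only [Category.assoc, ShortComplex.liftCycles_i, ShortComplex.toCycles_i] at this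
      rw [Category.assoc, Category.assoc, Category.assoc, this, ← cls_diff K r ho hq hz hb, reassoc_of% hv]
    have hX := (num_factors_iff K).1 (Subobject.factors_comp_arrow (P := N) (π₂ ≫ π₁ ≫ x))
    have hV := (num_factors_iff K).1 (Subobject.factors_comp_arrow (P := num K o p z a) v)
    have hdiff : (K.BSub r p a).Factors ((π₂ ≫ π₁ ≫ x) ≫ N.arrow - (v ≫ (num K o p z a).arrow) ≫ K.obj.d z a) := by
      let j : (N : A) ⟶ (num K p q a b : A) := (num K p q a b).factorThru N.arrow ((num_factors_iff K).2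
        ⟨((num_factors_iff K).1 (Subobject.factors_self N)).1,
          Subobject.factors_of_le _ (K.filX_anti b (by omega)) ((num_factors_iff K).1 (Subobject.factors_self N)).2⟩)
      have ej : cls K r hle hb = j ≫ cls K r hq.le hb := by
        refine (Category.id_comp _).symm.trans (cls_congr K r hle hq.le hb (𝟙 _) j ?_)
        simp [j, N, Subobject.factors_zero]
      rw [ej, ← Category.assoc, ← sub_eq_zero, ← Preadditive.sub_comp, cls_eq_zero_iff, Preadditive.sub_comp] at h1
      simpa [j] using h1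
    obtain ⟨W₃, π₃, hπ₃, w, y, hw, hwd, hy, e⟩ := BSub_decomp K hz hdiff
    apply factors_of_epi _ (π₃ ≫ π₂ ≫ π₁)
    have e5 : (π₃ ≫ π₂ ≫ π₁) ≫ x ≫ N.arrow =
        (w + π₃ ≫ v ≫ (num K o p z a).arrow) ≫ K.obj.d z a + y := by
      rw [Preadditive.comp_sub, sub_eq_iff_eq_add] at e
      simp only [Category.assoc] at e ⊢
      rw [e, Preadditive.add_comp]
      simp only [Category.assoc]
      abel
    rw [e5]
    refine Subobject.factors_add _ _ (BSub_factors K hz ?_ (show p - ((r + 1 : ℕ) : ℤ) + 1 ≤ o by omega) ?_ rfl)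
      (Subobject.sup_factors_of_factors_right hy)
    · rw [Preadditive.add_comp, Category.assoc]
      exact Subobject.factors_add _ _ hwd (Subobject.factors_of_factors_right _ hV.2)
    · exact Subobject.factors_add _ _ (Subobject.factors_of_le _ (K.filX_anti z (by omega)) hw)
        (Subobject.factors_of_factors_right _ hV.1)

end Succ

section Graded

variable (p a : ℤ)

/-- the graded pieces of the homology as quotients of cycles -/
theorem nonempty_iso_gr : Nonempty ((K.HFil a).gr p ≅ SpSeq.subquot (K.ZTop p a) (K.BBot p a)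
    (sup_le_sup_right (inf_le_inf_left _ (le_kernelSubobject _ _
      (imageSubobject_arrow_comp_eq_zero (K.obj.d_comp_d (a - 1) a (a + 1))))) _)) := by
  let M := K.filX p a ⊓ kernelSubobject (K.obj.d a (a + 1))
  obtain ⟨hM₁, hM₂⟩ := (Subobject.inf_factors M.arrow).1 (Subobject.factors_self M)
  obtain ⟨m₀, hm₀⟩ := exists_of_factors K hM₁
  have hcyc : m₀ ≫ (Fp K p).d a (a + 1) = 0 :=
    d_eq_zero K _ (by rw [hm₀]; exact (kernelSubobject_factors_iff _ _).1 hM₂)
  let φ₀ : (M : A) ⟶ (K.filH p a : A) :=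
    (Fp K p).liftCycles m₀ (a + 1) (by simp) hcyc ≫ (Fp K p).homologyπ a ≫ factorThruImageSubobject _
  let ψ : (M : A) ⟶ (K.HFil a).gr p :=
    φ₀ ≫ cokernel.π ((K.filH (p + 1) a).ofLE (K.filH p a) (K.filH_anti a (Int.le_add_one le_rfl)))
  have hφ₀ : φ₀ ≫ (K.filH p a).arrow =
      K.obj.liftCycles M.arrow (a + 1) (by simp) ((kernelSubobject_factors_iff _ _).1 hM₂) ≫ K.obj.homologyπ a := by
    simp only [φ₀, Category.assoc, SpSeq.FilCx.filH, imageSubobject_arrow_comp]
    rw [HomologicalComplex.homologyπ_naturality, HomologicalComplex.liftCycles_comp_cyclesMap_assoc]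
    simp only [hm₀]
  haveI : Epi φ₀ := by
    rw [epi_iff_surjective_up_to_refinements]
    intro W γ
    obtain ⟨W₁, π₁, hπ₁, g, hg⟩ := surjective_up_to_refinements_of_epi
      (factorThruImageSubobject (HomologicalComplex.homologyMap (K.fil p).arrow a)) γ
    obtain ⟨W₂, π₂, hπ₂, l, hl, hl'⟩ := (Fp K p).eq_liftCycles_homologyπ_up_to_refinements g (a + 1) (by simp)
    have hlM : M.Factors (l ≫ (K.fil p).arrow.f a) := (Subobject.inf_factors _).2 ⟨filX_factors K _ _ l,
      kernelSubobject_factors _ _ (by rw [Category.assoc, HomologicalComplex.Hom.comm, reassoc_of% hl, zero_comp])⟩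
    refine ⟨W₂, π₂ ≫ π₁, inferInstance, M.factorThru _ hlM, ?_⟩
    have e : M.factorThru _ hlM ≫ m₀ = l := by
      rw [← cancel_mono ((K.fil p).arrow.f a), Category.assoc, hm₀, Subobject.factorThru_arrow]
    simp only [φ₀, Category.assoc, HomologicalComplex.comp_liftCycles_assoc, e]
    rw [hg, reassoc_of% hl']
  haveI : Epi ψ := epi_comp _ _
  haveI : Epi (qmap M (K.ZTop p a) (K.BBot p a) le_sup_left (sup_le_sup_right (inf_le_inf_left _ (le_kernelSubobject _ _
      (imageSubobject_arrow_comp_eq_zero (K.obj.d_comp_d (a - 1) a (a + 1))))) _)) :=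
    epi_qmap _ _ (sup_le le_sup_left (le_trans le_sup_right le_sup_right))
  refine nonempty_iso_of_epi ψ (qmap M (K.ZTop p a) (K.BBot p a) le_sup_left (sup_le_sup_right (inf_le_inf_left _
    (le_kernelSubobject _ _ (imageSubobject_arrow_comp_eq_zero (K.obj.d_comp_d (a - 1) a (a + 1))))) _))
    fun W x => ?_
  have hx := (Subobject.inf_factors _).1 (Subobject.factors_comp_arrow (P := M) x)
  have hxd : (x ≫ M.arrow) ≫ K.obj.d a (a + 1) = 0 := (kernelSubobject_factors_iff _ _).1 hx.2
  have key : x ≫ ψ = 0 ↔ (K.filH (p + 1) a).Factors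
      (K.obj.liftCycles (x ≫ M.arrow) (a + 1) (by simp) hxd ≫ K.obj.homologyπ a) := by
    have e := qmap_eq_zero_iff (N := K.filH p a) (B := K.filH (p + 1) a) (le_refl _)
      (K.filH_anti a (Int.le_add_one le_rfl)) (x ≫ φ₀)
    have e1 : (x ≫ φ₀) ≫ qmap (K.filH p a) (K.filH p a) (K.filH (p + 1) a) (le_refl _)
        (K.filH_anti a (Int.le_add_one le_rfl)) = x ≫ ψ := by
      simp only [qmap, Subobject.ofLE_refl, Category.id_comp, ψ, Category.assoc]
    have e2 : (x ≫ φ₀) ≫ (K.filH p a).arrow =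
        K.obj.liftCycles (x ≫ M.arrow) (a + 1) (by simp) hxd ≫ K.obj.homologyπ a := by
      rw [Category.assoc x φ₀, hφ₀, HomologicalComplex.comp_liftCycles_assoc]
    rw [← e2, ← e]
    exact Iff.of_eq (congrArg (· = 0) e1.symm)
  rw [key, qmap_eq_zero_iff]
  constructor
  · intro h
    obtain ⟨W₁, π₁, hπ₁, g, hg⟩ := surjective_up_to_refinements_of_epi
      (factorThruImageSubobject (HomologicalComplex.homologyMap (K.fil (p + 1)).arrow a))
      ((K.filH (p + 1) a).factorThru _ h)
    obtain ⟨W₂, π₂, hπ₂, l, hl, hl'⟩ := (Fp K (p + 1)).eq_liftCycles_homologyπ_up_to_refinements g (a + 1) (by simp)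
    have e := π₂ ≫= (hg =≫ (K.filH (p + 1) a).arrow)
    simp only [Category.assoc, Subobject.factorThru_arrow, SpSeq.FilCx.filH, imageSubobject_arrow_comp] at e
    rw [reassoc_of% hl', HomologicalComplex.homologyπ_naturality, HomologicalComplex.liftCycles_comp_cyclesMap_assoc,
      HomologicalComplex.comp_liftCycles_assoc, HomologicalComplex.comp_liftCycles_assoc] at e
    obtain ⟨W₃, π₃, hπ₃, w, hw⟩ := (K.obj.liftCycles_comp_homologyπ_eq_iff_up_to_refinements (a - 1) a (a + 1)
      (by simp) (by simp) _ _ _ _).1 e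
    apply factors_of_epi _ (π₃ ≫ π₂ ≫ π₁)
    have e' : (π₃ ≫ π₂ ≫ π₁) ≫ x ≫ M.arrow =
        w ≫ K.obj.d (a - 1) a + (π₃ ≫ l) ≫ (K.fil (p + 1)).arrow.f a := by
      simp only [Category.assoc] at hw ⊢
      rw [hw, add_comm]
    have hy := filX_factors K (p + 1) a (π₃ ≫ l)
    have hwd : (K.filX p a).Factors (w ≫ K.obj.d (a - 1) a) := by
      have e'' : w ≫ K.obj.d (a - 1) a = (π₃ ≫ π₂ ≫ π₁) ≫ x ≫ M.arrow +
          (-π₃ ≫ l) ≫ (K.fil (p + 1)).arrow.f a := by
        rw [e', Preadditive.neg_comp]; abel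
      rw [e'']
      exact Subobject.factors_add _ _ (Subobject.factors_of_factors_right _ hx.1)
        (Subobject.factors_of_le _ (K.filX_anti a (Int.le_add_one le_rfl)) (filX_factors K _ _ _))
    rw [e']
    exact Subobject.factors_add _ _ (Subobject.sup_factors_of_factors_left ((Subobject.inf_factors _).2
      ⟨hwd, imageSubobject_factors_comp_self _ w⟩)) (Subobject.sup_factors_of_factors_right hy)
  · intro h
    obtain ⟨W₁, π₁, hπ₁, b, y, hb, hy, hby⟩ := sup_decomp h
    obtain ⟨hb₁, hb₂⟩ := (Subobject.inf_factors b).1 hb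
    obtain ⟨W₂, π₂, hπ₂, w, hw⟩ := surjective_up_to_refinements_of_epi
      (factorThruImageSubobject (K.obj.d (a - 1) a)) (Subobject.factorThru _ b hb₂)
    have e : π₂ ≫ b = w ≫ K.obj.d (a - 1) a := by
      have := hw =≫ (imageSubobject (K.obj.d (a - 1) a)).arrow
      simpa using this
    obtain ⟨y₀, hy₀⟩ := exists_of_factors K (Subobject.factors_of_factors_right π₂ hy)
    have hyd : (π₂ ≫ y) ≫ K.obj.d a (a + 1) = 0 := by
      have h2 : π₂ ≫ π₁ ≫ (x ≫ M.arrow) = π₂ ≫ b + π₂ ≫ y := by rw [hby, Preadditive.comp_add]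
      have h3 : π₂ ≫ y = π₂ ≫ π₁ ≫ (x ≫ M.arrow) - w ≫ K.obj.d (a - 1) a := by rw [h2, e]; abel
      rw [h3, Preadditive.sub_comp, Category.assoc, Category.assoc, hxd, Category.assoc w, K.obj.d_comp_d]
      simp
    have hy₀d : y₀ ≫ (Fp K (p + 1)).d a (a + 1) = 0 := d_eq_zero K _ (by rw [hy₀]; exact hyd)
    apply factors_of_epi _ (π₂ ≫ π₁)
    have e2 : (π₂ ≫ π₁) ≫ K.obj.liftCycles (x ≫ M.arrow) (a + 1) (by simp) hxd ≫ K.obj.homologyπ a =
        ((Fp K (p + 1)).liftCycles y₀ (a + 1) (by simp) hy₀d ≫ (Fp K (p + 1)).homologyπ a ≫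
          factorThruImageSubobject (HomologicalComplex.homologyMap (K.fil (p + 1)).arrow a)) ≫ (K.filH (p + 1) a).arrow := by
      simp only [Category.assoc, SpSeq.FilCx.filH, imageSubobject_arrow_comp]
      rw [HomologicalComplex.homologyπ_naturality, HomologicalComplex.liftCycles_comp_cyclesMap_assoc,
        HomologicalComplex.comp_liftCycles_assoc, HomologicalComplex.comp_liftCycles_assoc,
        K.obj.liftCycles_comp_homologyπ_eq_iff_up_to_refinements (a - 1) a (a + 1) (by simp) (by simp)]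
      refine ⟨W₂, 𝟙 _, inferInstance, w, ?_⟩
      rw [Category.id_comp, Category.id_comp, hy₀, hby, Preadditive.comp_add, e, add_comm]
    rw [e2]
    exact Subobject.factors_comp_arrow _

end Graded

section Serre

variable (P : ObjectProperty A) [P.IsClosedUnderIsomorphisms] (h0 : ∃ Z : A, IsZero Z ∧ P Z)
  (hP : ∀ S : ComposableArrows A 4, S.Exact → P (S.obj 0) → P (S.obj 1) → P (S.obj 3) → P (S.obj 4) → P (S.obj 2))

include h0 in
theorem prop_zero {Z : A} (hZ : IsZero Z) : P Z :=
  h0.elim fun _ ⟨h, h'⟩ => P.prop_of_iso (h.iso hZ) h'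

include hP in
theorem prop_five {X₀ X₁ X₂ X₃ X₄ : A} (f₀ : X₀ ⟶ X₁) (f₁ : X₁ ⟶ X₂) (f₂ : X₂ ⟶ X₃) (f₃ : X₃ ⟶ X₄)
    (w₀ : f₀ ≫ f₁ = 0) (w₁ : f₁ ≫ f₂ = 0) (w₂ : f₂ ≫ f₃ = 0)
    (e₀ : (ShortComplex.mk f₀ f₁ w₀).Exact) (e₁ : (ShortComplex.mk f₁ f₂ w₁).Exact) (e₂ : (ShortComplex.mk f₂ f₃ w₂).Exact)
    (h₀ : P X₀) (h₁ : P X₁) (h₃ : P X₃) (h₄ : P X₄) : P X₂ := by
  refine hP (ComposableArrows.mk₄ f₀ f₁ f₂ f₃) ?_ h₀ h₁ h₃ h₄
  refine ComposableArrows.exact_of_δ₀ (e₀.exact_toComposableArrows) ?_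
  exact ComposableArrows.exact_of_δ₀ e₁.exact_toComposableArrows e₂.exact_toComposableArrows

include h0 hP in
theorem prop_cokernel {X Y : A} (f : X ⟶ Y) (hX : P X) (hY : P Y) : P (cokernel f) :=
  prop_five P hP f (cokernel.π f) (0 : cokernel f ⟶ cokernel (cokernel.π f)) (0 : _ ⟶ cokernel (cokernel.π f))
    (cokernel.condition f) comp_zero comp_zero (ShortComplex.exact_cokernel f)
    ((ShortComplex.exact_iff_epi _ rfl).2 (inferInstance : Epi (cokernel.π f)))
    (ShortComplex.exact_of_isZero_X₂ _ (isZero_cokernel_of_epi _)) hX hY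
    (prop_zero P h0 (isZero_cokernel_of_epi _)) (prop_zero P h0 (isZero_cokernel_of_epi _))

include h0 hP in
theorem prop_kernel {X Y : A} (f : X ⟶ Y) (hX : P X) (hY : P Y) : P (kernel f) :=
  prop_five P hP (0 : kernel (kernel.ι f) ⟶ kernel (kernel.ι f)) (0 : kernel (kernel.ι f) ⟶ kernel f) (kernel.ι f) f
    comp_zero zero_comp (kernel.condition f) (ShortComplex.exact_of_isZero_X₂ _ (isZero_kernel_of_mono _))
    ((ShortComplex.exact_iff_mono _ rfl).2 (inferInstance : Mono (kernel.ι f)))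
    (ShortComplex.exact_kernel f) (prop_zero P h0 (isZero_kernel_of_mono _))
    (prop_zero P h0 (isZero_kernel_of_mono _)) hX hY

include h0 hP in
theorem prop_ext {S : ShortComplex A} (hS : S.ShortExact) (h1 : P S.X₁) (h3 : P S.X₃) : P S.X₂ := by
  haveI := hS.mono_f
  haveI := hS.epi_g
  exact prop_five P hP (0 : kernel S.f ⟶ S.X₁) S.f S.g (0 : S.X₃ ⟶ cokernel S.g) zero_comp S.zero comp_zero
    ((ShortComplex.exact_iff_mono _ rfl).2 hS.mono_f) hS.exact ((ShortComplex.exact_iff_epi _ rfl).2 hS.epi_g)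
    (prop_zero P h0 (isZero_kernel_of_mono _)) h1 h3 (prop_zero P h0 (isZero_cokernel_of_epi _))

include h0 hP in
theorem prop_homology (S : ShortComplex A) (h1 : P S.X₁) (h2 : P S.X₂) (h3 : P S.X₃) : P S.homology :=
  P.prop_of_iso (IsColimit.coconePointUniqueUpToIso (cokernelIsCokernel S.toCycles) S.homologyIsCokernel)
    (prop_cokernel P h0 hP S.toCycles h1
      (P.prop_of_iso (IsLimit.conePointUniqueUpToIso (kernelIsKernel S.g) S.cyclesIsKernel) (prop_kernel P h0 hP S.g h2 h3)))

include h0 hP in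
theorem prop_E_succ (r : ℕ) (hr : ∀ p n : ℤ, P (K.E r p n)) (p n : ℤ) : P (K.E (r + 1) p n) := by
  obtain ⟨e⟩ := nonempty_iso_homology K r (sub_add_cancel p (r : ℤ)) rfl rfl (sub_add_cancel n 1) rfl rfl
  exact P.prop_of_iso e.symm (prop_homology P h0 hP _ (hr _ _) (hr _ _) (hr _ _))

include h0 hP in
theorem prop_homology_of_page (hK : ∀ n : ℤ, (K.XFil n).IsFinite) (r : ℕ) (hr : ∀ p n : ℤ, P (K.E r p n)) (n : ℤ) :
    P (K.obj.homology n) := by
  have hE : ∀ k p m, P (K.E (r + k) p m) := by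
    intro k
    induction k with
    | zero => exact hr
    | succ k ih => exact prop_E_succ K P h0 hP (r + k) ih
  have hgr : ∀ p, P ((K.HFil n).gr p) := by
    intro p
    obtain ⟨b, hb⟩ := (hK (n + 1)).2
    obtain ⟨a, ha⟩ := (hK (n - 1)).1
    let R := r + ((b - p).toNat + (p + 1 - a).toNat)
    have hZ : K.ZSub R p n = K.ZTop p n := by
      refine le_antisymm ?_ (ZTop_le_ZSub K n p R)
      refine sup_le_sup_right (inf_le_inf_left _ (le_kernelSubobject _ _ ?_)) _
      have hbot : K.filX (p + R) (n + 1) = ⊥ :=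
        le_antisymm (le_trans (K.filX_anti (n + 1) (show b ≤ p + R by omega)) (le_of_eq hb)) bot_le
      rw [hbot, ← (Subobject.isPullback (K.obj.d n (n + 1)) ⊥).w, Subobject.bot_arrow, comp_zero]
    have hB : K.BSub R p n = K.BBot p n := by
      refine le_antisymm (BSub_le_BBot K n p R) ?_
      have htop : K.filX (p - R + 1) (n - 1) = ⊤ :=
        le_antisymm le_top (le_trans (le_of_eq ha.symm) (K.filX_anti (n - 1) (show p - R + 1 ≤ a by omega)))
      haveI : IsIso (K.filX (p - R + 1) (n - 1)).arrow := (Subobject.isIso_arrow_iff_eq_top _).2 htop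
      refine sup_le_sup_right (inf_le_inf_left _ (le_of_eq ?_)) _
      rw [imageSubobject_iso_comp]
    obtain ⟨e⟩ := nonempty_iso_gr K p n
    refine P.prop_of_iso e.symm ?_
    have key : ∀ (Z B : Subobject (K.obj.X n)) (h : B ≤ Z) (Z' B' : Subobject (K.obj.X n)) (h' : B' ≤ Z'),
        Z = Z' → B = B' → P (SpSeq.subquot Z B h) → P (SpSeq.subquot Z' B' h') := by
      intro Z B h Z' B' h' e₁ e₂ hp
      subst e₁ e₂
      exact hp
    exact key _ _ _ _ _ _ hZ hB (hE _ p n)
  obtain ⟨b, hb⟩ : ∃ b, ∀ p, b ≤ p → IsZero ((K.HFil n).step p) := by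
    obtain ⟨b, hb⟩ := (hK n).2
    refine ⟨b, fun p hp => IsZero.of_mono_eq_zero ((K.filH p n).arrow) ?_⟩
    have hbot : K.filX p n = ⊥ := le_antisymm (le_trans (K.filX_anti n hp) (le_of_eq hb)) bot_le
    have hz : IsZero ((Fp K p).X n) :=
      IsZero.of_mono_eq_zero ((K.fil p).arrow.f n) ((Subobject.mk_eq_bot_iff_zero).1 hbot)
    rw [← cancel_epi (factorThruImageSubobject (HomologicalComplex.homologyMap (K.fil p).arrow n))]
    exact (ShortComplex.isZero_homology_of_isZero_X₂ _ hz).eq_of_src _ _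
  have hstep : ∀ (k : ℕ) (p : ℤ), b ≤ p + k → P ((K.HFil n).step p) := by
    intro k
    induction k with
    | zero => exact fun p hp => prop_zero P h0 (hb p (by simpa using hp))
    | succ k ih =>
      intro p hp
      exact prop_ext P h0 hP (S := ShortComplex.mk ((K.HFil n).stepLE (Int.le_add_one (le_refl p))) (cokernel.π _) (cokernel.condition _))
        { exact := ShortComplex.exact_cokernel _
          mono_f := inferInstanceAs (Mono ((K.filH (p + 1) n).ofLE (K.filH p n) _))
          epi_g := inferInstanceAs (Epi (cokernel.π _)) }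
        (ih (p + 1) (by omega)) (hgr p)
  obtain ⟨a₁, h₁⟩ := (hK (n - 1)).1
  obtain ⟨a₂, h₂⟩ := (hK n).1
  obtain ⟨a₃, h₃⟩ := (hK (n + 1)).1
  let p := min a₁ (min a₂ a₃)
  have htop : ∀ (m c : ℤ), K.filX c m = ⊤ → p ≤ c → IsIso ((K.fil p).arrow.f m) := fun m c h hc =>
    (Subobject.isIso_iff_mk_eq_top _).2 (le_antisymm le_top (le_trans (le_of_eq h.symm) (K.filX_anti m hc)))
  haveI : IsIso (HomologicalComplex.homologyMap (K.fil p).arrow n) := by
    let φ := (HomologicalComplex.shortComplexFunctor' A (ComplexShape.up ℤ) (n - 1) n (n + 1)).map (K.fil p).arrow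
    haveI : IsIso φ.τ₁ := htop (n - 1) a₁ h₁ (by omega)
    haveI : IsIso φ.τ₂ := htop n a₂ h₂ (by omega)
    haveI : IsIso φ.τ₃ := htop (n + 1) a₃ h₃ (by omega)
    haveI : IsIso φ := ShortComplex.isIso_of_isIso φ
    have := (HomologicalComplex.natIsoSc' A (ComplexShape.up ℤ) (n - 1) n (n + 1) (by simp) (by simp)).hom.naturality (K.fil p).arrow
    haveI : IsIso ((HomologicalComplex.shortComplexFunctor A (ComplexShape.up ℤ) n).map (K.fil p).arrow) :=
      IsIso.of_isIso_fac_right this
    exact inferInstanceAs (IsIso ((ShortComplex.homologyFunctor A).map _))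
  haveI : Mono (factorThruImageSubobject (HomologicalComplex.homologyMap (K.fil p).arrow n)) :=
    mono_of_mono_fac (imageSubobject_arrow_comp (HomologicalComplex.homologyMap (K.fil p).arrow n))
  haveI : IsIso (factorThruImageSubobject (HomologicalComplex.homologyMap (K.fil p).arrow n)) := isIso_of_mono_of_epi _
  haveI : IsIso (imageSubobject (HomologicalComplex.homologyMap (K.fil p).arrow n)).arrow :=
    IsIso.of_isIso_fac_left (imageSubobject_arrow_comp (HomologicalComplex.homologyMap (K.fil p).arrow n))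
  exact P.prop_of_iso (asIso (imageSubobject (HomologicalComplex.homologyMap (K.fil p).arrow n)).arrow)
    (hstep (b - p).toNat p (by omega))

end Serre

end Groth.Agent.SpFilLim
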