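import Groth.Agent.SpFilLim.Basic
import Mathlib

/-!
# Convergence for filtrations finite in cohomology
-/

set_option autoImplicit false
set_option linter.style.haveILetI false
set_option backward.isDefEq.respectTransparency false
set_option backward.isDefEq.respectTransparency.types false

universe v u

open CategoryTheory Limits

namespace Groth.Agent.SpFilLim

variable {A : Type u} [Category.{v} A] [Abelian A]

theorem isComplete_of_fil_bot (H : SpSeq.FilObj A) {b : ℤ} (hb : ∀ p, b ≤ p → H.fil p = ⊥) : H.IsComplete := by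
  intro T f hf
  have hiso : ∀ p, b ≤ p → IsIso (cokernel.π (H.fil p).arrow) := fun p hp => by
    have e : (H.fil p).arrow = 0 := by rw [hb p hp, Subobject.bot_arrow]
    exact ⟨cokernel.desc _ (𝟙 _) (by rw [e]; simp), cokernel.π_desc _ _ _, by
      rw [← cancel_epi (cokernel.π _)]; simp⟩
  haveI := hiso b le_rfl
  refine ⟨f b ≫ inv (cokernel.π (H.fil b).arrow), fun p => ?_⟩
  rcases le_total p b with hp | hp
  · rw [← hf p b hp, Category.assoc, IsIso.inv_comp_eq _ |>.2]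
    exact (cokernel.π_desc _ _ _).symm
  · haveI := hiso p hp
    have hq : cokernel.π (H.fil p).arrow ≫ H.quotMap hp = cokernel.π (H.fil b).arrow := cokernel.π_desc _ _ _
    haveI : IsIso (H.quotMap hp) := by
      haveI : IsIso (cokernel.π (H.fil p).arrow ≫ H.quotMap hp) := by rw [hq]; infer_instance
      exact IsIso.of_isIso_comp_left (cokernel.π (H.fil p).arrow) _
    rw [← cancel_mono (H.quotMap hp), hf b p hp, Category.assoc, hq, Category.assoc, IsIso.inv_hom_id, Category.comp_id]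

theorem main (K : SpSeq.FilCx A)
    (h0 : ∀ n : ℤ, ∃ p₀ : ℤ, ∀ p : ℤ, p₀ ≤ p → IsZero ((K.fil p : CochainComplex A ℤ).homology n))
    (h1 : ∀ n : ℤ, ∃ p₁ : ℤ, ∀ p : ℤ, p ≤ p₁ → IsIso (HomologicalComplex.homologyMap (K.fil p).arrow n)) :
    K.IsBounded 1 ∧ (∀ n : ℤ, (K.HFil n).IsFinite) ∧ K.Converges := by
  have hbot : ∀ n, ∃ b, ∀ p, b ≤ p → K.filH p n = ⊥ := fun n => by
    obtain ⟨b, hb⟩ := h0 n
    refine ⟨b, fun p hp => ?_⟩
    show imageSubobject (HomologicalComplex.homologyMap (K.fil p).arrow n) = ⊥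
    rw [(hb p hp).eq_of_src (HomologicalComplex.homologyMap (K.fil p).arrow n) 0, imageSubobject_zero]
  have htop : ∀ n, ∃ a, ∀ p ≤ a, K.filH p n = ⊤ := fun n => by
    obtain ⟨a, ha⟩ := h1 n
    refine ⟨a, fun p hp => le_antisymm le_top ?_⟩
    haveI := ha p hp
    exact Subobject.le_of_comm ((⊤ : Subobject _).arrow ≫ inv (HomologicalComplex.homologyMap (K.fil p).arrow n) ≫
      factorThruImageSubobject _) (by simp [SpSeq.FilCx.filH])
  have hZ : ∀ p n, ∃ r₀ : ℕ, ∀ r, r₀ ≤ r → K.ZSub r p n = K.ZTop p n := fun p n => by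
    obtain ⟨b, hb⟩ := h0 (n + 1)
    refine ⟨(b - p).toNat + 1, fun r hr => le_antisymm (ZSub_le_of_isZero K n p r (by omega) (hb _ (by omega)))
      (ZTop_le_ZSub K n p r)⟩
  refine ⟨fun n => ?_, fun n => ⟨?_, ?_⟩, fun p n => ?_, ⟨fun p n => ⟨?_, ?_⟩, fun n => ⟨?_, ?_⟩⟩, fun n => ?_⟩
  · obtain ⟨b, hb⟩ := h0 n
    obtain ⟨b', hb'⟩ := h0 (n + 1)
    obtain ⟨a, ha⟩ := h1 n
    obtain ⟨a', ha'⟩ := h1 (n + 1)
    refine (Set.finite_Icc (min a a' - 1) (max b b')).subset fun p hp => ?_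
    by_contra hc
    simp only [Set.mem_Icc, not_and_or, not_le] at hc
    refine hp (isZero_E_one K n p ?_)
    rcases hc with hc | hc
    · haveI := ha p (by omega)
      haveI := ha (p + 1) (by omega)
      haveI := ha' (p + 1) (by omega)
      exact ZSub_one_le_low K n p
    · exact ZSub_one_le_high K n p (hb' _ (by omega)) (hb _ (by omega))
  · obtain ⟨a, ha⟩ := htop n
    exact ⟨a, ha a le_rfl⟩
  · obtain ⟨b, hb⟩ := hbot n
    exact ⟨b, hb b le_rfl⟩
  · obtain ⟨r₀, hr⟩ := hZ p n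
    exact ⟨r₀, fun r h => (hr r h).trans (hr r₀ le_rfl).symm⟩
  · obtain ⟨r₀, hr⟩ := hZ p n
    refine IsLeast.isGLB ⟨⟨r₀, hr r₀ le_rfl⟩, ?_⟩
    rintro _ ⟨r, rfl⟩
    exact ZTop_le_ZSub K n p r
  · obtain ⟨a, ha⟩ := h1 n
    let r₀ := (p + 1 - a).toNat + 1
    haveI := ha (p - r₀ + 1) (by omega)
    refine IsGreatest.isLUB ⟨⟨r₀, le_antisymm (BSub_le_BBot K n p r₀)
      (BBot_le_BSub_of_mono K n p r₀ _ rfl (by omega))⟩, ?_⟩
    rintro _ ⟨r, rfl⟩
    exact BSub_le_BBot K n p r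
  · obtain ⟨b, hb⟩ := hbot n
    exact IsLeast.isGLB ⟨⟨b, hb b le_rfl⟩, fun x _ => bot_le⟩
  · obtain ⟨a, ha⟩ := htop n
    exact IsGreatest.isLUB ⟨⟨a, ha a le_rfl⟩, fun x _ => le_top⟩
  · obtain ⟨b, hb⟩ := hbot n
    exact isComplete_of_fil_bot (K.HFil n) hb

end Groth.Agent.SpFilLim
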