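import Groth.Prelude.Def_SpSeq
import Mathlib

/-!
# Filtered complexes whose filtration is finite in cohomology
-/

set_option autoImplicit false
set_option linter.style.haveILetI false
set_option backward.isDefEq.respectTransparency false
set_option backward.isDefEq.respectTransparency.types false

universe v u

open CategoryTheory Limits

namespace Groth.Agent.SpFilLim

variable {A : Type u} [Category.{v} A] [Abelian A]

theorem factors_of_epi {X W W' : A} (S : Subobject X) (π : W' ⟶ W) [Epi π] {x : W ⟶ X}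
    (h : S.Factors (π ≫ x)) : S.Factors x := by
  have h0 : x ≫ cokernel.π S.arrow = 0 := by
    rw [← cancel_epi π, comp_zero, ← Category.assoc, ← S.factorThru_arrow _ h, Category.assoc,
      cokernel.condition, comp_zero]
  rw [← Abelian.monoLift_comp S.arrow x h0]
  exact Subobject.factors_comp_arrow _

theorem le_of_factors {X : A} {S T : Subobject X} (h : T.Factors S.arrow) : S ≤ T :=
  Subobject.le_of_comm (T.factorThru _ h) (T.factorThru_arrow _ h)

variable (K : SpSeq.FilCx A)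

/-- the subcomplex -/
noncomputable abbrev Fp (p : ℤ) : CochainComplex A ℤ := (K.fil p : CochainComplex A ℤ)

theorem filX_factors (p n : ℤ) {W : A} (y : W ⟶ (Fp K p).X n) : (K.filX p n).Factors (y ≫ (K.fil p).arrow.f n) :=
  Subobject.factors_of_factors_right y (Subobject.mk_factors_self _)

theorem exists_of_factors {p n : ℤ} {W : A} {x : W ⟶ K.obj.X n} (h : (K.filX p n).Factors x) :
    ∃ y : W ⟶ (Fp K p).X n, y ≫ (K.fil p).arrow.f n = x :=
  (Subobject.mk_factors_iff _ _).1 h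

theorem exists_lift {p q : ℤ} (h : p ≤ q) {n : ℤ} {W : A} (y : W ⟶ (Fp K q).X n) :
    ∃ y' : W ⟶ (Fp K p).X n, y' ≫ (K.fil p).arrow.f n = y ≫ (K.fil q).arrow.f n :=
  ⟨y ≫ (K.stepLE h).f n, by rw [Category.assoc, ← HomologicalComplex.comp_f, Subobject.ofLE_arrow]⟩

theorem d_eq_zero {p : ℤ} {a b : ℤ} {W : A} (y : W ⟶ (Fp K p).X a)
    (h : (y ≫ (K.fil p).arrow.f a) ≫ K.obj.d a b = 0) : y ≫ (Fp K p).d a b = 0 := by
  rw [← cancel_mono ((K.fil p).arrow.f b), zero_comp, Category.assoc, ← (K.fil p).arrow.comm a b, ← Category.assoc, h]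

/-- a cycle whose class is killed is a boundary up to refinement -/
theorem exists_boundary (L : CochainComplex A ℤ) {a b c : ℤ} (hab : a + 1 = b) (hbc : b + 1 = c) {W : A}
    (y : W ⟶ L.X b) (hy : y ≫ L.d b c = 0)
    (h : L.liftCycles y c (by simp [← hbc]) hy ≫ L.homologyπ b = 0) :
    ∃ (W' : A) (π : W' ⟶ W) (_ : Epi π) (z : W' ⟶ L.X a), π ≫ y = z ≫ L.d a b := by
  exact (L.liftCycles_comp_homologyπ_eq_zero_iff_up_to_refinements a b c (by simp [← hab]) (by simp [← hbc]) y hy).1 h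

theorem exists_boundary_of_isZero (L : CochainComplex A ℤ) {b : ℤ} (hL : IsZero (L.homology b)) {W : A}
    (y : W ⟶ L.X b) (hy : y ≫ L.d b (b + 1) = 0) :
    ∃ (W' : A) (π : W' ⟶ W) (_ : Epi π) (z : W' ⟶ L.X (b - 1)), π ≫ y = z ≫ L.d (b - 1) b :=
  exists_boundary L (sub_add_cancel b 1) rfl y hy (hL.eq_of_tgt _ _)

/-- a cycle of a subcomplex which is a boundary in a complex with the same homology is a boundary -/
theorem exists_boundary_of_mono {L M : CochainComplex A ℤ} (φ : L ⟶ M) {a b : ℤ} (hab : a + 1 = b)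
    [Mono (HomologicalComplex.homologyMap φ b)] {W : A} (y : W ⟶ L.X b) (hy : y ≫ L.d b (b + 1) = 0)
    (w : W ⟶ M.X a) (hw : y ≫ φ.f b = w ≫ M.d a b) :
    ∃ (W' : A) (π : W' ⟶ W) (_ : Epi π) (z : W' ⟶ L.X a), π ≫ y = z ≫ L.d a b := by
  refine exists_boundary L hab rfl y hy ?_
  rw [← cancel_mono (HomologicalComplex.homologyMap φ b), Category.assoc, HomologicalComplex.homologyπ_naturality,
    HomologicalComplex.liftCycles_comp_cyclesMap_assoc, zero_comp,
    M.liftCycles_comp_homologyπ_eq_zero_iff_up_to_refinements a b (b + 1) (by simp [← hab]) (by simp)]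
  exact ⟨W, 𝟙 W, inferInstance, w, by simpa using hw⟩

/-- a cycle is homologous to one in the subcomplex when the map on homology is epi -/
theorem exists_homologous {L M : CochainComplex A ℤ} (φ : L ⟶ M) {b : ℤ}
    [Epi (HomologicalComplex.homologyMap φ b)] {W : A} (y : W ⟶ M.X b) (hy : y ≫ M.d b (b + 1) = 0) :
    ∃ (W' : A) (π : W' ⟶ W) (_ : Epi π) (l : W' ⟶ L.X b) (z : W' ⟶ M.X (b - 1)),
      π ≫ y = l ≫ φ.f b + z ≫ M.d (b - 1) b := by
  obtain ⟨W₁, π₁, hπ₁, γ, hγ⟩ := surjective_up_to_refinements_of_epi (HomologicalComplex.homologyMap φ b)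
    (M.liftCycles y (b + 1) (by simp) hy ≫ M.homologyπ b)
  obtain ⟨W₂, π₂, hπ₂, l, hl, hl'⟩ := L.eq_liftCycles_homologyπ_up_to_refinements γ (b + 1) (by simp)
  have e : M.liftCycles ((π₂ ≫ π₁) ≫ y) (b + 1) (by simp) (by simp [hy]) ≫ M.homologyπ b =
      M.liftCycles (l ≫ φ.f b) (b + 1) (by simp) (by rw [Category.assoc, φ.comm, reassoc_of% hl, zero_comp]) ≫
        M.homologyπ b := by
    have := π₂ ≫= hγ
    rw [reassoc_of% hl', HomologicalComplex.homologyπ_naturality, HomologicalComplex.liftCycles_comp_cyclesMap_assoc] at this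
    rw [← this, ← HomologicalComplex.comp_liftCycles_assoc M y (b + 1) _ hy]
    simp
  obtain ⟨W₃, π₃, hπ₃, z, hz⟩ := (M.liftCycles_comp_homologyπ_eq_iff_up_to_refinements (b - 1) b (b + 1) (by simp)
    (by simp) _ _ _ _).1 e
  refine ⟨W₃, π₃ ≫ π₂ ≫ π₁, inferInstance, π₃ ≫ l, z, ?_⟩
  simpa [Category.assoc] using hz

/-- replace an element of a step by a cycle of that step -/
theorem exists_cycle_diff {p n : ℤ} {W : A} (x₀ : W ⟶ (Fp K p).X n) (y : W ⟶ K.obj.X n)
    (hy : (K.filX p n).Factors y) (hxy : (x₀ ≫ (K.fil p).arrow.f n - y) ≫ K.obj.d n (n + 1) = 0) :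
    ∃ c : W ⟶ (Fp K p).X n, c ≫ (Fp K p).d n (n + 1) = 0 ∧ c ≫ (K.fil p).arrow.f n = x₀ ≫ (K.fil p).arrow.f n - y := by
  obtain ⟨y₀, rfl⟩ := exists_of_factors K hy
  refine ⟨x₀ - y₀, d_eq_zero K _ ?_, Preadditive.sub_comp _ _ _⟩
  rw [Preadditive.sub_comp]
  exact hxy

theorem factors_image (n : ℤ) {q p : ℤ} (h : q ≤ p) {W : A} (z : W ⟶ (Fp K p).X (n - 1)) :
    (imageSubobject ((K.filX q (n - 1)).arrow ≫ K.obj.d (n - 1) n)).Factors
      ((z ≫ (K.fil p).arrow.f (n - 1)) ≫ K.obj.d (n - 1) n) := by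
  obtain ⟨z', hz'⟩ := exists_lift K h z
  rw [← hz', ← (K.filX q (n - 1)).factorThru_arrow _ (filX_factors K _ _ z'), Category.assoc]
  exact imageSubobject_factors_comp_self _ _

variable (n p : ℤ)

theorem ZSub_le_of_isZero (r : ℕ) (hr : 1 ≤ r) (h : IsZero ((Fp K (p + r)).homology (n + 1))) :
    K.ZSub r p n ≤ K.ZTop p n := by
  refine sup_le ?_ le_sup_right
  let S := K.filX p n ⊓ (Subobject.pullback (K.obj.d n (n + 1))).obj (K.filX (p + r) (n + 1))
  apply le_of_factors
  obtain ⟨hx₁, hx₂⟩ := (Subobject.inf_factors S.arrow).1 (Subobject.factors_self S)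
  obtain ⟨x₀, hx₀⟩ := exists_of_factors K hx₁
  have hdx : (K.filX (p + r) (n + 1)).Factors (S.arrow ≫ K.obj.d n (n + 1)) := by
    rw [← Subobject.factorThru_arrow _ _ hx₂, Category.assoc, ← (Subobject.isPullback (K.obj.d n (n + 1)) _).w,
      ← Category.assoc]
    exact Subobject.factors_comp_arrow _
  obtain ⟨u, hu⟩ := exists_of_factors K hdx
  obtain ⟨W', π, hπ, z, hz⟩ := exists_boundary_of_isZero (Fp K (p + r)) h u
    (d_eq_zero K _ (by rw [hu, Category.assoc, K.obj.d_comp_d, comp_zero]))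
  apply factors_of_epi _ π
  obtain ⟨l, hl⟩ : ∃ l : W' ⟶ (Fp K (p + r)).X n, π ≫ u = l ≫ (Fp K (p + r)).d n (n + 1) := by
    revert z hz
    rw [show n + 1 - 1 = n by omega]
    exact fun z hz => ⟨z, hz⟩
  let y := l ≫ (K.fil (p + r)).arrow.f n
  have hy : (K.filX (p + 1) n).Factors y := by
    obtain ⟨l', hl'⟩ := exists_lift K (show p + 1 ≤ p + r by omega) l
    show (K.filX (p + 1) n).Factors (l ≫ _)
    rw [← hl']
    exact filX_factors K _ _ l'
  have hc : (π ≫ S.arrow - y) ≫ K.obj.d n (n + 1) = 0 := by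
    rw [Preadditive.sub_comp, Category.assoc, ← hu, sub_eq_zero, reassoc_of% hl, Category.assoc,
      HomologicalComplex.Hom.comm]
  rw [← sub_add_cancel (π ≫ S.arrow) y]
  refine Subobject.factors_add _ _ (Subobject.sup_factors_of_factors_left ((Subobject.inf_factors _).2 ⟨?_, ?_⟩))
    (Subobject.sup_factors_of_factors_right hy)
  · obtain ⟨c, -, hc'⟩ := exists_cycle_diff K (π ≫ x₀) y (Subobject.factors_of_le _ (K.filX_anti n (show p ≤ p + 1 by omega)) hy)
      (by rw [Category.assoc, hx₀]; exact hc)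
    rw [Category.assoc, hx₀] at hc'
    rw [← hc']
    exact filX_factors K _ _ c
  · exact kernelSubobject_factors _ _ hc

theorem ZTop_le_ZSub (r : ℕ) : K.ZTop p n ≤ K.ZSub r p n :=
  sup_le_sup_right (inf_le_inf_left _ (SpSeq.FilCx.kernelSubobject_le_pullback _ _)) _

theorem BBot_le_BSub_of_mono (r : ℕ) (q : ℤ) (hq : q = p - r + 1) (hqp : q ≤ p)
    [Mono (HomologicalComplex.homologyMap (K.fil q).arrow n)] : K.BBot p n ≤ K.BSub r p n := by
  refine sup_le ?_ le_sup_right
  let S := K.filX p n ⊓ imageSubobject (K.obj.d (n - 1) n)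
  refine le_trans (le_of_factors ?_) le_sup_left
  obtain ⟨hx₁, hx₂⟩ := (Subobject.inf_factors S.arrow).1 (Subobject.factors_self S)
  obtain ⟨x₀, hx₀⟩ := exists_of_factors K hx₁
  obtain ⟨W₁, π₁, hπ₁, w, hw⟩ := surjective_up_to_refinements_of_epi (factorThruImageSubobject (K.obj.d (n - 1) n))
    ((imageSubobject (K.obj.d (n - 1) n)).factorThru S.arrow hx₂)
  have hw' : π₁ ≫ S.arrow = w ≫ K.obj.d (n - 1) n := by
    have := hw =≫ (imageSubobject (K.obj.d (n - 1) n)).arrow
    simpa using this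
  obtain ⟨x₁, hx₁'⟩ := exists_lift K hqp (π₁ ≫ x₀)
  rw [Category.assoc, hx₀] at hx₁'
  obtain ⟨W₂, π₂, hπ₂, z, hz⟩ := exists_boundary_of_mono (K.fil q).arrow (sub_add_cancel n 1) x₁
    (d_eq_zero K _ (by rw [hx₁', hw', Category.assoc, K.obj.d_comp_d, comp_zero])) w (hx₁'.trans hw')
  apply factors_of_epi _ (π₂ ≫ π₁)
  refine (Subobject.inf_factors _).2 ⟨?_, ?_⟩
  · rw [← hx₀, ← Category.assoc]
    exact filX_factors K _ _ _
  · subst hq
    have e : (π₂ ≫ π₁) ≫ S.arrow =
        (z ≫ (K.fil (p - r + 1)).arrow.f (n - 1)) ≫ K.obj.d (n - 1) n := by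
      rw [Category.assoc, ← hx₁', reassoc_of% hz, Category.assoc, HomologicalComplex.Hom.comm]
    rw [e]
    obtain ⟨z', hz'⟩ : ∃ z', z' ≫ (K.filX (p - r + 1) (n - 1)).arrow = z ≫ (K.fil (p - r + 1)).arrow.f (n - 1) :=
      ⟨_, Subobject.factorThru_arrow _ _ (filX_factors K _ _ z)⟩
    rw [← hz', Category.assoc]
    exact imageSubobject_factors_comp_self _ _

theorem BSub_le_BBot (r : ℕ) : K.BSub r p n ≤ K.BBot p n :=
  sup_le_sup_right (inf_le_inf_left _ (imageSubobject_comp_le _ _)) _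

/-- the first page in degrees where the filtration is cohomologically trivial above -/
theorem ZSub_one_le_high (h : IsZero ((Fp K (p + 1)).homology (n + 1))) (h' : IsZero ((Fp K p).homology n)) :
    K.ZSub 1 p n ≤ K.BSub 1 p n := by
  refine le_trans (ZSub_le_of_isZero K n p 1 le_rfl (by simpa using h)) (sup_le ?_ le_sup_right)
  let S := K.filX p n ⊓ kernelSubobject (K.obj.d n (n + 1))
  refine le_trans (le_of_factors ?_) le_sup_left
  obtain ⟨hx₁, hx₂⟩ := (Subobject.inf_factors S.arrow).1 (Subobject.factors_self S)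
  obtain ⟨x₀, hx₀⟩ := exists_of_factors K hx₁
  obtain ⟨W₁, π₁, hπ₁, z, hz⟩ := exists_boundary_of_isZero (Fp K p) h' x₀
    (d_eq_zero K _ (by rw [hx₀]; exact (kernelSubobject_factors_iff _ _).1 hx₂))
  apply factors_of_epi _ π₁
  refine (Subobject.inf_factors _).2 ⟨?_, ?_⟩
  · rw [← hx₀, ← Category.assoc]
    exact filX_factors K _ _ _
  · have e : π₁ ≫ S.arrow = (z ≫ (K.fil p).arrow.f (n - 1)) ≫ K.obj.d (n - 1) n := by
      rw [← hx₀, reassoc_of% hz, Category.assoc, HomologicalComplex.Hom.comm]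
    rw [e]
    exact factors_image K n (show p - ((1 : ℕ) : ℤ) + 1 ≤ p by omega) z

/-- the first page in degrees where the filtration is cohomologically everything -/
theorem ZSub_one_le_low [IsIso (HomologicalComplex.homologyMap (K.fil p).arrow n)]
    [IsIso (HomologicalComplex.homologyMap (K.fil (p + 1)).arrow n)]
    [IsIso (HomologicalComplex.homologyMap (K.fil (p + 1)).arrow (n + 1))] :
    K.ZSub 1 p n ≤ K.BSub 1 p n := by
  refine sup_le ?_ le_sup_right
  let S := K.filX p n ⊓ (Subobject.pullback (K.obj.d n (n + 1))).obj (K.filX (p + (1 : ℕ)) (n + 1))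
  apply le_of_factors
  obtain ⟨hx₁, hx₂⟩ := (Subobject.inf_factors S.arrow).1 (Subobject.factors_self S)
  obtain ⟨x₀, hx₀⟩ := exists_of_factors K hx₁
  have hdx : (K.filX (p + 1) (n + 1)).Factors (S.arrow ≫ K.obj.d n (n + 1)) := by
    rw [← Subobject.factorThru_arrow _ _ hx₂, Category.assoc, ← (Subobject.isPullback (K.obj.d n (n + 1)) _).w,
      ← Category.assoc]
    exact Subobject.factors_comp_arrow _
  obtain ⟨u, hu⟩ := exists_of_factors K hdx
  obtain ⟨W₁, π₁, hπ₁, l, hl⟩ := exists_boundary_of_mono (K.fil (p + 1)).arrow (rfl : n + 1 = n + 1) u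
    (d_eq_zero K _ (by rw [hu, Category.assoc, K.obj.d_comp_d, comp_zero])) S.arrow hu
  let y := l ≫ (K.fil (p + 1)).arrow.f n
  have hy : (K.filX (p + 1) n).Factors y := filX_factors K _ _ l
  obtain ⟨c, hc, hc'⟩ := exists_cycle_diff K (π₁ ≫ x₀) y
    (Subobject.factors_of_le _ (K.filX_anti n (show p ≤ p + 1 by omega)) hy)
    (by rw [Category.assoc, hx₀, Preadditive.sub_comp, Category.assoc, ← hu, sub_eq_zero, reassoc_of% hl,
      Category.assoc, HomologicalComplex.Hom.comm])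
  rw [Category.assoc, hx₀] at hc'
  let φ := K.stepLE (show p ≤ p + 1 by omega)
  have hφ : φ ≫ (K.fil p).arrow = (K.fil (p + 1)).arrow := Subobject.ofLE_arrow _
  haveI : Epi (HomologicalComplex.homologyMap φ n) := by
    have e := congrArg (fun f => HomologicalComplex.homologyMap f n) hφ
    simp only [HomologicalComplex.homologyMap_comp] at e
    haveI : IsIso (HomologicalComplex.homologyMap φ n) := IsIso.of_isIso_fac_right e
    infer_instance
  obtain ⟨W₂, π₂, hπ₂, m, z, hz⟩ := exists_homologous φ c hc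
  apply factors_of_epi _ (π₂ ≫ π₁)
  have e : (π₂ ≫ π₁) ≫ S.arrow =
      (m ≫ (K.fil (p + 1)).arrow.f n + π₂ ≫ y) + (z ≫ (K.fil p).arrow.f (n - 1)) ≫ K.obj.d (n - 1) n := by
    have h1 : π₂ ≫ π₁ ≫ S.arrow = π₂ ≫ c ≫ (K.fil p).arrow.f n + π₂ ≫ y := by
      rw [hc', Preadditive.comp_sub]; abel
    rw [Category.assoc, h1, reassoc_of% hz, Preadditive.add_comp, Category.assoc, Category.assoc,
      ← HomologicalComplex.comp_f, hφ, Category.assoc, HomologicalComplex.Hom.comm]
    abel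
  have hzd : (K.filX p n).Factors ((z ≫ (K.fil p).arrow.f (n - 1)) ≫ K.obj.d (n - 1) n) := by
    rw [Category.assoc, HomologicalComplex.Hom.comm, ← Category.assoc]
    exact filX_factors K _ _ _
  rw [e]
  refine Subobject.factors_add _ _ (Subobject.sup_factors_of_factors_right
      (Subobject.factors_add _ _ (filX_factors K _ _ m) (Subobject.factors_of_factors_right π₂ hy)))
    (Subobject.sup_factors_of_factors_left ((Subobject.inf_factors _).2 ⟨hzd, ?_⟩))
  exact factors_image K n (show p - ((1 : ℕ) : ℤ) + 1 ≤ p by omega) z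

theorem isZero_E_one (h : K.ZSub 1 p n ≤ K.BSub 1 p n) : IsZero (K.E 1 p n) := by
  have hh := le_antisymm h (K.BSub_le_ZSub 1 p n)
  show IsZero (cokernel ((K.BSub 1 p n).ofLE (K.ZSub 1 p n) _))
  haveI : IsSplitEpi ((K.BSub 1 p n).ofLE (K.ZSub 1 p n) (K.BSub_le_ZSub 1 p n)) :=
    IsSplitEpi.mk' ⟨(K.ZSub 1 p n).ofLE (K.BSub 1 p n) h, by simp⟩
  exact isZero_cokernel_of_epi _

end Groth.Agent.SpFilLim
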